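import Mathlib

/-! Flatness criteria over Artinian local rings from exactness mod the maximal ideal. -/

set_option autoImplicit false

universe u v w

namespace Groth.Agent.ArtTor88

open TensorProduct LinearMap

variable {A : Type u} [CommRing A]

section
variable {P Q R : Type v} [AddCommGroup P] [Module A P] [AddCommGroup Q] [Module A Q]
  [AddCommGroup R] [Module A R]

/-- extension step for exactness in the middle -/
theorem exact_lTensor_ext {X : Type u} [AddCommGroup X] [Module A X] (N : Submodule A X)
    [Module.Flat A R] (f : P →ₗ[A] Q) (g : Q →ₗ[A] R) (hfg : g ∘ₗ f = 0)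
    (h1 : Function.Exact (f.lTensor N) (g.lTensor N))
    (h2 : Function.Exact (f.lTensor (X ⧸ N)) (g.lTensor (X ⧸ N))) :
    Function.Exact (f.lTensor X) (g.lTensor X) := by
  have comm : ∀ {Y Z : Type v} [AddCommGroup Y] [Module A Y] [AddCommGroup Z] [Module A Z]
      {X₁ X₂ : Type u} [AddCommGroup X₁] [Module A X₁] [AddCommGroup X₂] [Module A X₂]
      (a : X₁ →ₗ[A] X₂) (b : Y →ₗ[A] Z) (t : X₁ ⊗[A] Y),
      b.lTensor X₂ (a.rTensor Y t) = a.rTensor Z (b.lTensor X₁ t) := by
    intro Y Z _ _ _ _ X₁ X₂ _ _ _ _ a b t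
    rw [← LinearMap.comp_apply, lTensor_comp_rTensor, ← rTensor_comp_lTensor, LinearMap.comp_apply]
  intro x
  constructor
  · intro hx
    have : g.lTensor (X ⧸ N) (N.mkQ.rTensor Q x) = 0 := by rw [comm, hx, map_zero]
    obtain ⟨p'', hp''⟩ := (h2 _).mp this
    obtain ⟨p, rfl⟩ := LinearMap.rTensor_surjective P N.mkQ_surjective p''
    have hex : Function.Exact (N.subtype.rTensor Q) (N.mkQ.rTensor Q) :=
      rTensor_exact Q (LinearMap.exact_subtype_mkQ N) N.mkQ_surjective
    obtain ⟨y, hy⟩ := (hex (x - f.lTensor X p)).mp (by rw [map_sub, ← comm, hp'', sub_self])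
    have hfg' : ∀ (p : X ⊗[A] P), g.lTensor X (f.lTensor X p) = 0 := by
      intro p; rw [← LinearMap.comp_apply, ← lTensor_comp, hfg, lTensor_zero, LinearMap.zero_apply]
    have : g.lTensor N y = 0 := by
      apply Module.Flat.rTensor_preserves_injective_linearMap (M := R) N.subtype N.subtype_injective
      rw [← comm, hy, map_sub, hx, hfg', map_zero, sub_zero]
    obtain ⟨p', hp'⟩ := (h1 y).mp this
    refine ⟨N.subtype.rTensor P p' + p, ?_⟩
    rw [map_add, comm, hp', hy, sub_add_cancel]
  · rintro ⟨p, rfl⟩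
    rw [← LinearMap.comp_apply, ← lTensor_comp, hfg, lTensor_zero, LinearMap.zero_apply]

/-- extension step for injectivity -/
theorem injective_lTensor_ext {X : Type u} [AddCommGroup X] [Module A X] (N : Submodule A X)
    [Module.Flat A Q] (f : P →ₗ[A] Q)
    (h1 : Function.Injective (f.lTensor N)) (h2 : Function.Injective (f.lTensor (X ⧸ N))) :
    Function.Injective (f.lTensor X) := by
  rw [injective_iff_map_eq_zero]
  intro x hx
  have : N.mkQ.rTensor P x = 0 := by
    apply h2
    rw [map_zero, ← LinearMap.comp_apply, lTensor_comp_rTensor, ← rTensor_comp_lTensor,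
      LinearMap.comp_apply, hx, map_zero]
  have hex : Function.Exact (N.subtype.rTensor P) (N.mkQ.rTensor P) :=
    rTensor_exact P (LinearMap.exact_subtype_mkQ N) N.mkQ_surjective
  obtain ⟨y, rfl⟩ := (hex x).mp this
  have : f.lTensor N y = 0 := by
    apply Module.Flat.rTensor_preserves_injective_linearMap (M := Q) N.subtype N.subtype_injective
    rw [map_zero, ← LinearMap.comp_apply, rTensor_comp_lTensor, ← lTensor_comp_rTensor,
      LinearMap.comp_apply, hx]
  rw [h1 (this.trans (map_zero _).symm), map_zero]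

variable [IsLocalRing A]

theorem exact_lTensor_of_residue [Module.Flat A R] (f : P →ₗ[A] Q) (g : Q →ₗ[A] R)
    (hfg : g ∘ₗ f = 0)
    (hred : Function.Exact (f.lTensor (IsLocalRing.ResidueField A))
      (g.lTensor (IsLocalRing.ResidueField A)))
    {X : Type u} [AddCommGroup X] [Module A X] (hX : IsFiniteLength A X) :
    Function.Exact (f.lTensor X) (g.lTensor X) := by
  induction hX with
  | @of_subsingleton X _ _ _ =>
    intro x
    refine ⟨fun _ => ⟨0, Subsingleton.elim _ _⟩, fun _ => Subsingleton.elim _ _⟩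
  | @of_simple_quotient X _ _ N _ _ ih =>
    refine exact_lTensor_ext N f g hfg ih ?_
    obtain ⟨I, hI, ⟨e⟩⟩ := isSimpleModule_iff_quot_maximal.mp (inferInstance : IsSimpleModule A (X ⧸ N))
    obtain rfl := IsLocalRing.eq_maximalIdeal hI
    have e' : (X ⧸ N) ≃ₗ[A] IsLocalRing.ResidueField A := e
    refine Function.Exact.of_ladder_linearEquiv_of_exact
      (e₁ := e'.symm.rTensor P) (e₂ := e'.symm.rTensor Q) (e₃ := e'.symm.rTensor R) ?_ ?_ hred
    · exact TensorProduct.ext' fun a b => by simp
    · exact TensorProduct.ext' fun a b => by simp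

theorem injective_lTensor_of_residue [Module.Flat A Q] (f : P →ₗ[A] Q)
    (hred : Function.Injective (f.lTensor (IsLocalRing.ResidueField A)))
    {X : Type u} [AddCommGroup X] [Module A X] (hX : IsFiniteLength A X) :
    Function.Injective (f.lTensor X) := by
  induction hX with
  | @of_subsingleton X _ _ _ => exact fun x y _ => Subsingleton.elim _ _
  | @of_simple_quotient X _ _ N _ _ ih =>
    refine injective_lTensor_ext N f ih ?_
    obtain ⟨I, hI, ⟨e⟩⟩ := isSimpleModule_iff_quot_maximal.mp (inferInstance : IsSimpleModule A (X ⧸ N))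
    obtain rfl := IsLocalRing.eq_maximalIdeal hI
    have e' : (X ⧸ N) ≃ₗ[A] IsLocalRing.ResidueField A := e
    have : f.lTensor (X ⧸ N) =
        (e'.symm.toLinearMap.rTensor Q) ∘ₗ f.lTensor _ ∘ₗ (e'.toLinearMap.rTensor P) :=
      TensorProduct.ext' fun a b => by simp
    rw [this]
    exact ((e'.symm.rTensor Q).injective.comp hred).comp (e'.rTensor P).injective

variable [IsArtinianRing A]

omit [IsLocalRing A] in
theorem isFiniteLength_of_finite (X : Type u) [AddCommGroup X] [Module A X] [Module.Finite A X] :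
    IsFiniteLength A X :=
  isFiniteLength_iff_isNoetherian_isArtinian.mpr ⟨inferInstance, inferInstance⟩

theorem flat_of_injective_reduction [Module.Flat A Q] (f : P →ₗ[A] Q)
    (hred : Function.Injective (f.lTensor (IsLocalRing.ResidueField A))) :
    Module.Flat A P := by
  rw [Module.Flat.iff_rTensor_injective']
  intro I
  have h1 : Function.Injective (f.lTensor I) :=
    injective_lTensor_of_residue f hred (isFiniteLength_of_finite I)
  have h2 : Function.Injective (I.subtype.rTensor Q) :=
    Module.Flat.rTensor_preserves_injective_linearMap _ I.subtype_injective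
  apply Function.Injective.of_comp (f := f.lTensor A)
  rw [← LinearMap.coe_comp, lTensor_comp_rTensor, ← rTensor_comp_lTensor, LinearMap.coe_comp]
  exact h2.comp h1

theorem exact_of_residue [Module.Flat A R] (f : P →ₗ[A] Q) (g : Q →ₗ[A] R)
    (hfg : g ∘ₗ f = 0)
    (hred : Function.Exact (f.lTensor (IsLocalRing.ResidueField A))
      (g.lTensor (IsLocalRing.ResidueField A))) :
    Function.Exact f g := by
  have h := exact_lTensor_of_residue f g hfg hred (isFiniteLength_of_finite A)
  refine Function.Exact.of_ladder_linearEquiv_of_exact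
      (e₁ := TensorProduct.lid A P) (e₂ := TensorProduct.lid A Q) (e₃ := TensorProduct.lid A R) ?_ ?_ h
  · exact TensorProduct.ext' fun a b => by simp
  · exact TensorProduct.ext' fun a b => by simp

theorem flat_coker_of_residue [Module.Flat A R] (f : P →ₗ[A] Q) (g : Q →ₗ[A] R)
    (hfg : g ∘ₗ f = 0)
    (hred : Function.Exact (f.lTensor (IsLocalRing.ResidueField A))
      (g.lTensor (IsLocalRing.ResidueField A)))
    {M : Type v} [AddCommGroup M] [Module A M] (h : R →ₗ[A] M)
    (hgh : Function.Exact g h) (hh : Function.Surjective h) :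
    Module.Flat A M := by
  rw [Module.Flat.iff_rTensor_injective']
  intro I
  rw [injective_iff_map_eq_zero]
  intro x hx
  obtain ⟨y, rfl⟩ := LinearMap.lTensor_surjective I hh x
  rw [← LinearMap.comp_apply, rTensor_comp_lTensor, ← lTensor_comp_rTensor, LinearMap.comp_apply] at hx
  obtain ⟨q, hq⟩ := ((lTensor_exact A hgh hh) _).mp hx
  have hI : Function.Exact (I.subtype.rTensor Q) (Submodule.mkQ I |>.rTensor Q) :=
    rTensor_exact Q (LinearMap.exact_subtype_mkQ I) (Submodule.mkQ_surjective I)
  have : g.lTensor (A ⧸ I) ((Submodule.mkQ I).rTensor Q q) = 0 := by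
    rw [← LinearMap.comp_apply, lTensor_comp_rTensor, ← rTensor_comp_lTensor, LinearMap.comp_apply,
      hq, ← LinearMap.comp_apply, ← rTensor_comp]
    have : Submodule.mkQ I ∘ₗ I.subtype = 0 := by
      ext z; exact Ideal.Quotient.eq_zero_iff_mem.mpr z.2
    rw [this, rTensor_zero, LinearMap.zero_apply]
  obtain ⟨p', hp'⟩ := (exact_lTensor_of_residue f g hfg hred (isFiniteLength_of_finite (A ⧸ I)) _).mp this
  obtain ⟨p, rfl⟩ := LinearMap.rTensor_surjective P (Submodule.mkQ_surjective I) p'
  rw [← LinearMap.comp_apply, lTensor_comp_rTensor, ← rTensor_comp_lTensor, LinearMap.comp_apply] at hp'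
  obtain ⟨z, hz⟩ := (hI (q - f.lTensor A p)).mp (by rw [map_sub, hp', sub_self])
  have hgz : g.lTensor I z = y := by
    apply Module.Flat.rTensor_preserves_injective_linearMap (M := R) I.subtype I.subtype_injective
    rw [← LinearMap.comp_apply, rTensor_comp_lTensor, ← lTensor_comp_rTensor, LinearMap.comp_apply, hz,
      map_sub, hq, ← LinearMap.comp_apply, ← lTensor_comp, hfg, lTensor_zero, LinearMap.zero_apply,
      sub_zero]
  rw [← hgz, ← LinearMap.comp_apply, ← lTensor_comp]
  have : h ∘ₗ g = 0 := LinearMap.ext fun z => hgh.apply_apply_eq_zero z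
  rw [this, lTensor_zero, LinearMap.zero_apply]

end

end Groth.Agent.ArtTor88
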